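import Cfsg.Agent.H125.Hall.Defs
import Cfsg.Agent.H203.LSDef
import Cfsg.Agent.H61.SpAltFb
import Cfsg.Agent.H498.SporOut
import Cfsg.Agent.H123.SporSimple
import Cfsg.Agent.NotCT.Orders

/-!
# `ALS` for `M11`, `M12` (helper5, task 4230, S2223)

`five_le` : a nontrivial projective representation of a simple group with a Frobenius group `11 : 5`, over a field
whose characteristic is not 11, has degree at least 5.
-/

set_option autoImplicit false

namespace Cfsg.Agent.H5.Als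

open Cfsg Cfsg.Agent.H125.Hall Cfsg.Agent.H203.LS Cfsg.Agent.H61.SpAlt

universe u v w

/-- the orbits of the affine maps `a ↦ k a + b` of `ZMod 11`, `k` of order 5 -/
theorem orbit {k : ℕ} (hk : k ^ 5 % 11 = 1) (hk1 : k % 11 ≠ 1) (b : ZMod 11) (A : Set (ZMod 11)) (h0 : (0 : ZMod 11) ∈ A)
    (h1 : (1 : ZMod 11) ∈ A) (h : ∀ a ∈ A, (k : ZMod 11) * a + b ∈ A) : ∃ f : Fin 5 → A, Function.Injective f := by
  obtain ⟨κ, hκ⟩ : ∃ κ : ZMod 11, κ = (k : ZMod 11) := ⟨_, rfl⟩
  have e5 : κ ^ 5 = 1 := by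
    rw [hκ]
    have : ((k ^ 5 : ℕ) : ZMod 11) = ((1 : ℕ) : ZMod 11) := by
      rw [ZMod.natCast_eq_natCast_iff']
      omega
    exact_mod_cast this
  have e1 : κ ≠ 1 := by
    rw [hκ]
    intro h2
    apply hk1
    have : ((k : ℕ) : ZMod 11) = ((1 : ℕ) : ZMod 11) := by exact_mod_cast h2
    rw [ZMod.natCast_eq_natCast_iff'] at this
    omega
  rw [← hκ] at h
  obtain ⟨a, ha, hne⟩ : ∃ a ∈ A, κ * a + b ≠ a := by
    by_contra hcon
    push Not at hcon
    have h2 := hcon 0 h0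
    have h3 := hcon 1 h1
    rw [mul_zero, zero_add] at h2
    rw [h2, mul_one, add_zero] at h3
    exact e1 h3
  have m1 := h _ ha
  have m2 := h _ m1
  have m3 := h _ m2
  have m4 := h _ m3
  refine ⟨![⟨_, ha⟩, ⟨_, m1⟩, ⟨_, m2⟩, ⟨_, m3⟩, ⟨_, m4⟩], ?_⟩
  have key : ∀ κ b a : ZMod 11, κ ^ 5 = 1 → κ ≠ 1 → κ * a + b ≠ a →
      Function.Injective ![a, κ * a + b, κ * (κ * a + b) + b, κ * (κ * (κ * a + b) + b) + b,
        κ * (κ * (κ * (κ * a + b) + b) + b) + b] := by decide +kernel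
  have h5 := key κ b a e5 e1 hne
  intro i j hij
  apply h5
  have h6 := congrArg Subtype.val hij
  fin_cases i <;> fin_cases j <;> first | rfl | exact h6

theorem core_five {r : ℕ} {P : Type v} {T : Type u} [Group P] [Group T] [IsSimpleGroup T] {π : P →* T} {k : Type w}
    [Field k] [IsAlgClosed k] {V : Type w} [AddCommGroup V] [Module k V] [FiniteDimensional k V]
    {ρ : P →* (V →ₗ[k] V)} (h : Core r π ρ) (h11 : (11 : k) ≠ 0) (hF : Fb 11 5 T) : 5 ≤ Module.finrank k V := by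
  obtain ⟨a, x, j, ha, hx, hc, hj⟩ := hF
  obtain ⟨X, hX⟩ := h.surj a
  obtain ⟨Y, hY⟩ := h.surj x
  have ha1 : a ≠ 1 := by
    rintro rfl
    rw [orderOf_one] at ha
    omega
  have hj5 : j ^ 5 % 11 = 1 := by
    have h1 : a ^ (j ^ 5) = a ^ 1 := by
      have h2 : ∀ n : ℕ, x ^ n * a * (x ^ n)⁻¹ = a ^ (j ^ n) := by
        intro n
        induction n with
        | zero => simp
        | succ n ih =>
          rw [pow_succ', mul_inv_rev, show x * x ^ n * a * ((x ^ n)⁻¹ * x⁻¹) = x * (x ^ n * a * (x ^ n)⁻¹) * x⁻¹ by group,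
            ih, ← conj_pow, hc, ← pow_mul, pow_succ, mul_comm]
      rw [← h2 5, ← hx, pow_orderOf_eq_one]
      simp
    have h2 := pow_inj_mod.1 h1
    rw [ha] at h2
    omega
  have hj1 : j % 11 ≠ 1 := by
    have := hj 1 (by norm_num) (by norm_num)
    rw [pow_one] at this
    omega
  -- scalars
  obtain ⟨t, ht⟩ := h.sc (X ^ 11) (fun g => h.comm_ker (by rw [map_pow, hX, ← ha, pow_orderOf_eq_one]) g)
  have hcm : π (Y * X * Y⁻¹ * (X ^ j)⁻¹) = 1 := by
    rw [map_mul, map_mul, map_mul, map_inv, map_inv, map_pow, hX, hY, hc, mul_inv_cancel]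
  obtain ⟨s, hs⟩ := h.sc _ (fun g => h.comm_ker hcm g)
  have hnt : ∃ v : V, v ≠ 0 := by
    obtain ⟨g, hg⟩ := h.ne
    by_contra hcon
    push Not at hcon
    exact hg (LinearMap.ext fun v => by rw [hcon v, map_zero, map_zero])
  obtain ⟨v1, hv1⟩ := hnt
  have : Nontrivial V := ⟨v1, 0, hv1⟩
  obtain ⟨l, hl⟩ := Module.End.exists_eigenvalue (ρ X)
  obtain ⟨v0, hv0⟩ := hl.exists_hasEigenvector
  have e0 : ρ X v0 = l • v0 := hv0.apply_eq_smul
  have hv00 : v0 ≠ 0 := hv0.2
  have hl0 : l ≠ 0 := by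
    rintro rfl
    exact h.ne_zero X hv00 (by rw [e0, zero_smul])
  have hpow : ∀ (n : ℕ) (v : V) (μ : k), ρ X v = μ • v → ρ (X ^ n) v = μ ^ n • v := by
    intro n v μ hv
    induction n with
    | zero => simp
    | succ n ih => rw [pow_succ', map_mul, Module.End.mul_apply, ih, map_smul, hv, smul_smul, pow_succ]
  have ht0 : t = l ^ 11 := by
    have h2 := hpow 11 v0 l e0
    rw [ht] at h2
    exact smul_left_injective k hv00 h2
  -- the normalised operator
  set f : V →ₗ[k] V := l⁻¹ • ρ X with hf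
  have hfn : ∀ n : ℕ, f ^ n = (l⁻¹) ^ n • ρ (X ^ n) := by
    intro n
    rw [hf, smul_pow, map_pow]
  have f11 : f ^ 11 = 1 := by
    rw [hfn]
    ext v
    rw [LinearMap.smul_apply, ht, ht0, smul_smul, ← mul_pow, inv_mul_cancel₀ hl0, one_pow, one_smul, Module.End.one_apply]
  have f1 : f ≠ 1 := by
    intro h1
    refine h.not_scalar (x := X) (by rw [hX]; exact ha1) (s := l) fun v => ?_
    have h2 := LinearMap.congr_fun h1 v
    rw [hf, LinearMap.smul_apply, Module.End.one_apply] at h2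
    calc ρ X v = (l * l⁻¹) • ρ X v := by rw [mul_inv_cancel₀ hl0, one_smul]
      _ = l • v := by rw [mul_smul, h2]
  obtain ⟨z, hz1, vz, hvz, hz⟩ := exists_eigen (N := 11) (by exact_mod_cast h11) f11 f1
  have hfpow : ∀ (n : ℕ) (v : V) (μ : k), f v = μ • v → (f ^ n) v = μ ^ n • v := by
    intro n v μ hv
    induction n with
    | zero => simp
    | succ n ih => rw [pow_succ', Module.End.mul_apply, ih, map_smul, hv, smul_smul, pow_succ]
  have hz11 : z ^ 11 = 1 := by
    have h2 := hfpow 11 vz z hz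
    rw [f11, Module.End.one_apply] at h2
    have h3 : (1 : k) • vz = z ^ 11 • vz := by rw [one_smul]; exact h2
    exact (smul_left_injective k hvz h3).symm
  have hzo : orderOf z = 11 := orderOf_eq_prime hz11 hz1
  have hprim : IsPrimitiveRoot z 11 := by rw [← hzo]; exact IsPrimitiveRoot.orderOf z
  -- the conjugation
  have hconj : ∀ v, ρ X (ρ Y⁻¹ v) = ρ Y⁻¹ (s • ρ (X ^ j) v) := by
    intro v
    rw [← hs (ρ (X ^ j) v), ← Module.End.mul_apply, ← Module.End.mul_apply, ← Module.End.mul_apply, ← map_mul, ← map_mul,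
      ← map_mul]
    congr 2
    group
  have hs0 : s ≠ 0 := by
    rintro rfl
    exact h.ne_zero _ hv00 (by rw [hs, zero_smul])
  have hstep : ∀ v μ, f v = μ • v → f (ρ Y⁻¹ v) = (s * l ^ j * l⁻¹ * μ ^ j) • ρ Y⁻¹ v := by
    intro v μ hv
    have h2 : ρ X v = (l * μ) • v := by
      rw [mul_smul, ← hv, hf, LinearMap.smul_apply, smul_smul, mul_inv_cancel₀ hl0, one_smul]
    rw [hf, LinearMap.smul_apply, hconj, hpow j v _ h2, smul_smul, map_smul, smul_smul]
    congr 1
    ring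
  have hf0 : f v0 = (1 : k) • v0 := by
    rw [hf, LinearMap.smul_apply, e0, smul_smul, inv_mul_cancel₀ hl0]
  -- the exponent of the scalar
  have hb11 : (s * l ^ j * l⁻¹) ^ 11 = 1 := by
    have h2 := hstep v0 1 hf0
    rw [one_pow, mul_one] at h2
    have h3 := hfpow 11 _ _ h2
    rw [f11, Module.End.one_apply] at h3
    have h4 : (1 : k) • ρ Y⁻¹ v0 = (s * l ^ j * l⁻¹) ^ 11 • ρ Y⁻¹ v0 := by rw [one_smul]; exact h3
    exact (smul_left_injective k (h.ne_zero _ hv00) h4).symm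
  obtain ⟨b, -, hb⟩ := hprim.eq_pow_of_pow_eq_one hb11
  -- the exponents of the eigenvalues
  let A : Set (ZMod 11) := {a | ∃ v, v ≠ 0 ∧ f v = z ^ a.val • v}
  have hmod : ∀ n : ℕ, z ^ ((n : ZMod 11)).val = z ^ n := by
    intro n
    rw [ZMod.val_natCast, ← hzo, pow_mod_orderOf]
  obtain ⟨g, hg⟩ := orbit hj5 hj1 (b : ZMod 11) A ⟨v0, hv00, by rw [hf0, ZMod.val_zero, pow_zero]⟩
    ⟨vz, hvz, by rw [hz, ← Nat.cast_one (R := ZMod 11), hmod, pow_one]⟩ (by
      rintro a ⟨v, hv, hva⟩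
      refine ⟨ρ Y⁻¹ v, h.ne_zero _ hv, ?_⟩
      rw [hstep v _ hva, ← hb]
      congr 1
      rw [show (j : ZMod 11) * a + (b : ZMod 11) = ((j * a.val + b : ℕ) : ZMod 11) by
        push_cast; rw [ZMod.natCast_val, ZMod.cast_id], hmod, pow_add, ← pow_mul, mul_comm (a.val), mul_comm])
  choose vv hvv0 hvv using fun i => (g i).2
  have h7 := card_le_of_weights (fun _ : Unit => f) vv (fun i _ => z ^ (g i).1.val) hvv0 (fun i _ => hvv i) (by
    intro i i' hi
    have h8 := congrFun hi ()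
    apply hg
    apply Subtype.ext
    apply ZMod.val_injective
    exact hprim.pow_inj (ZMod.val_lt _) (ZMod.val_lt _) h8)
  rwa [Nat.card_eq_fintype_card, Fintype.card_fin] at h7

theorem five_le {T : Type} [Group T] [IsSimpleGroup T] (hF : Fb 11 5 T) : LS.{0, 0, 0} 11 5 T :=
  LS.of_core fun P _ π k _ _ V _ _ _ ρ h => core_five h (by exact_mod_cast h.rk) hF

theorem als_of {T : Type} [Group T] [Finite T] [IsSimpleGroup T] (hF : Fb 11 5 T) (h11 : 11 ∣ Nat.card T)
    (hv : v2 T ≤ 7) : ALS T := by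
  intro m hm
  obtain ⟨k, _, P, _, _, π, ρ, h1, h2, h3, h4, h5⟩ := hm
  have h6 := five_le hF P π h1 h2 h3 k (by
    intro h0
    apply h5
    obtain ⟨c, hc⟩ := h11
    rw [hc, Nat.cast_mul, h0, zero_mul]) m ρ h4
  refine ⟨fun h => by omega, fun _ => hv, fun h => by omega, fun _ => by omega⟩

theorem v2_le {T : Type} [Group T] [Finite T] [IsSimpleGroup T] {N n : ℕ} (hN : Nat.card T = N) (hN0 : N ≠ 0)
    (hnp : ¬ N.Prime) (hs : IsSporadicGroup T) (hn : ¬ 2 ^ n ∣ N) : v2 T ≤ n := by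
  have hidx := Cfsg.Agent.H498.SporOut.index_le_two hs
  have h1 := Subgroup.card_mul_index (MulAut.conj : T →* MulAut T).range
  have h2 : Nat.card ↥(MulAut.conj : T →* MulAut T).range ∣ N := by
    rw [← hN]
    exact Subgroup.card_dvd_of_surjective _ (MonoidHom.rangeRestrict_surjective (MulAut.conj : T →* MulAut T))
  have h3 : Nat.card (MulAut T) ∣ N * 2 := by
    rw [← h1]
    apply Nat.mul_dvd_mul h2
    have h4 : (MulAut.conj : T →* MulAut T).range.index ≠ 0 := Subgroup.index_ne_zero_of_finite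
    interval_cases (MulAut.conj : T →* MulAut T).range.index
    · exact absurd rfl h4
    · norm_num
    · norm_num
  unfold v2
  by_contra hlt
  push Not at hlt
  have h4 : 2 ^ (n + 1) ∣ Nat.card (MulAut T) :=
    (Nat.Prime.pow_dvd_iff_le_factorization Nat.prime_two Nat.card_pos.ne').2 (by omega)
  have h5 := h4.trans h3
  rw [pow_succ] at h5
  exact hn (Nat.dvd_of_mul_dvd_mul_right (by norm_num) h5)

theorem als_m11 {T : Type} [Group T] (h : Cfsg.Spor.IsoM11 T) : ALS T := by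
  have hs : IsSporadicGroup T := Or.inl h
  have : IsSimpleGroup T := Cfsg.Agent.H123.SporSimple.spor_simple hs
  have hN := Cfsg.Agent.NotCT.Orders.m11 h
  have : Finite T := Nat.finite_of_card_ne_zero (by rw [hN]; norm_num)
  obtain ⟨e⟩ := h
  refine als_of (fb_M11_eleven.map e.symm.toMonoidHom e.symm.injective) (by rw [hN]; norm_num) ?_
  exact (v2_le (n := 5) hN (by norm_num) (by norm_num) hs (by norm_num)).trans (by norm_num)

theorem als_m12 {T : Type} [Group T] (h : Cfsg.Spor.IsoM12 T) : ALS T := by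
  have hs : IsSporadicGroup T := Or.inr (Or.inl h)
  have : IsSimpleGroup T := Cfsg.Agent.H123.SporSimple.spor_simple hs
  have hN := Cfsg.Agent.NotCT.Orders.m12 h
  have : Finite T := Nat.finite_of_card_ne_zero (by rw [hN]; norm_num)
  obtain ⟨e⟩ := h
  refine als_of (fb_M12_eleven.map e.symm.toMonoidHom e.symm.injective) (by rw [hN]; norm_num) ?_
  exact v2_le (n := 7) hN (by norm_num) (by norm_num) hs (by norm_num)

end Cfsg.Agent.H5.Als
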